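import Groth.Agent.Lib.Lead.GX.FormalMap
import Groth.Agent.Lib.Lead.FF.ML
import Groth.Agent.Lib.Helper2.FormalQ3
import Groth.Agent.Lib.Helper2.FormalEq2

/-! # Morphisms of systems from compatible families; Nakayama for coherent formal modules -/

set_option autoImplicit false
universe u
open CategoryTheory Limits Opposite TopologicalSpace AlgebraicGeometry

namespace Groth.Agent.LD.GX
open Groth.Agent.LD.FF Groth.Agent.LD Groth.Agent.LD.GE Groth.Agent.LD.TS

section Abelian
variable {C : Type*} [Category C] [Abelian C]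

/-- if `e` is an epimorphism and the kernel of `e ≫ b` is killed by `e`, then `b` is a
monomorphism. -/
lemma mono_of_kernel_comp {P Y Z : C} (e : P ⟶ Y) [Epi e] (b : Y ⟶ Z)
    (h : kernel.ι (e ≫ b) ≫ e = 0) : Mono b := by
  refine Preadditive.mono_of_cancel_zero _ (fun {W} z hz => ?_)
  haveI : Epi (pullback.fst z e) := Abelian.epi_pullback_of_epi_g z e
  have h1 : pullback.snd z e ≫ e ≫ b = 0 := by
    rw [← pullback.condition_assoc, hz, comp_zero]
  have h2 : pullback.snd z e = kernel.lift (e ≫ b) _ h1 ≫ kernel.ι _ := (kernel.lift_ι _ _ _).symm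
  rw [← cancel_epi (pullback.fst z e), comp_zero, pullback.condition, h2, Category.assoc, h,
    comp_zero]

end Abelian

variable {A : Type u} [CommRing A] {X : Scheme.{u}} [X.Over (Spec (CommRingCat.of A))]
  {I : Ideal A}

/-- a module killed by a power of `I` and equal to `I` times itself is zero. -/
lemma isZero_of_killedBy_of_epi_smulFamily {C : X.Modules} (m : ℕ)
    (hk : Formal.KilledBy (I ^ m) C) (he : Epi (Formal.smulFamily I C)) : IsZero C := by
  induction m with
  | zero =>
    have h1 := hk 1 (by rw [pow_zero, Ideal.one_eq_top]; trivial)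
    rw [smulMod_one] at h1
    rw [IsZero.iff_id_eq_zero, h1]
  | succ m ih =>
    apply ih
    intro b hb
    rw [← cancel_epi (Formal.smulFamily I C), comp_zero]
    apply Sigma.hom_ext
    intro a
    rw [comp_zero, ← Category.assoc, ι_σ, ← CohIII.smulMod_mul]
    apply hk
    rw [pow_succ]
    exact Ideal.mul_mem_mul hb a.2

/-- **Nakayama for coherent formal modules**: a morphism to `G_n` which becomes an epimorphism
after projection to `G_0` is an epimorphism. -/
lemma epi_of_epi_comp_map_zero {G : ℕᵒᵖ ⥤ X.Modules} (hG : Formal.IsCohFormal I G) {P : X.Modules}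
    (n : ℕ) (σ : P ⟶ G.obj (op n)) (h : Epi (σ ≫ G.map (homOfLE (Nat.zero_le n)).op)) :
    Epi σ := by
  set c := cokernel.π σ with hc
  -- `coker σ` is killed by `I^(n+1)`
  have hk : Formal.KilledBy (I ^ (n + 1)) (cokernel σ) := by
    intro b hb
    rw [← cancel_epi c, comp_zero, comp_smulMod, hG.2.1 n b hb, zero_comp]
  -- `coker σ = I · coker σ`
  have he : Epi (Formal.smulFamily I (cokernel σ)) := by
    apply Abelian.epi_of_cokernel_π_eq_zero
    set ρ := cokernel.π (Formal.smulFamily I (cokernel σ)) with hρ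
    have hq := Groth.Agent.H2.FormalQ.isQ_tr hG (Nat.zero_le n)
    have hkρ : Formal.KilledBy (I ^ (0 + 1)) (cokernel (Formal.smulFamily I (cokernel σ))) := by
      intro b hb
      have hb' : b ∈ I := by simpa using hb
      rw [← cancel_epi ρ, comp_zero, comp_smulMod]
      exact smulMod_π I (cokernel σ) b hb'
    obtain ⟨u, hu⟩ := Groth.Agent.H2.FormalQ.IsQ.exists_desc hq hkρ (c ≫ ρ)
    have hu0 : u = 0 := by
      rw [← cancel_epi (σ ≫ G.map (homOfLE (Nat.zero_le n)).op), comp_zero, Category.assoc]
      change σ ≫ Groth.Agent.H2.FormalQ.tr G (Nat.zero_le n) ≫ u = 0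
      rw [hu, ← Category.assoc, hc, cokernel.condition, zero_comp]
    rw [hu0, comp_zero] at hu
    rw [← cancel_epi c, ← hu, comp_zero]
  have hz := isZero_of_killedBy_of_epi_smulFamily (n + 1) hk he
  exact Abelian.epi_of_cokernel_π_eq_zero _ (hz.eq_of_tgt _ _)

section Family
variable {P : X.Modules} {G : ℕᵒᵖ ⥤ X.Modules}
  (hk : ∀ n, Formal.KilledBy (I ^ (n + 1)) (G.obj (op n)))
  (σ : ∀ n, P ⟶ G.obj (op n)) (hσ : ∀ n, σ (n + 1) ≫ tr G n = σ n)

include hk in
lemma smulFamily_comp_eq_zero (n : ℕ) : Formal.smulFamily (I ^ (n + 1)) P ≫ σ n = 0 := by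
  apply Sigma.hom_ext
  intro b
  rw [comp_zero, ← Category.assoc, ι_σ, ← comp_smulMod, hk n _ b.2, comp_zero]

/-- the descent of the `n`-th member of the family to `P / I^(n+1) P`. -/
noncomputable def descFam (n : ℕ) : Formal.modPow I (n + 1) P ⟶ G.obj (op n) :=
  cokernel.desc _ (σ n) (smulFamily_comp_eq_zero hk σ n)

@[reassoc]
lemma π_descFam (n : ℕ) : Formal.modPowπ I (n + 1) P ≫ descFam hk σ n = σ n :=
  cokernel.π_desc _ _ _

include hσ in
lemma descFam_trans (n : ℕ) :
    Formal.modPowTrans I (n + 1) P ≫ descFam hk σ n = descFam hk σ (n + 1) ≫ tr G n := by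
  haveI : Epi (Formal.modPowπ I (n + 1 + 1) P) := inferInstanceAs (Epi (cokernel.π _))
  rw [← cancel_epi (Formal.modPowπ I (n + 1 + 1) P), ← Category.assoc, Formal.modPowπ_trans,
    π_descFam, π_descFam_assoc, hσ n]

/-- the morphism of systems `(P / I^(n+1) P) ⟶ G` attached to a compatible family `P ⟶ G_n`. -/
noncomputable def sysOfFamily : Formal.completion I P ⟶ G :=
  NatTrans.ofOpSequence (F := Formal.completion I P) (G := G) (fun n => descFam hk σ n) (fun n => by
    have h2 : (Formal.completion I P).map (homOfLE (Nat.le_add_right n 1)).op =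
        Formal.modPowTrans I (n + 1) P := by
      unfold Formal.completion
      exact Functor.ofOpSequence_map_homOfLE_succ _ n
    exact (congrArg (fun t => t ≫ descFam hk σ n) h2).trans (descFam_trans hk σ hσ n))

@[reassoc]
lemma π_sysOfFamily (n : ℕ) :
    Formal.modPowπ I (n + 1) P ≫ (sysOfFamily hk σ hσ).app (op n) = σ n :=
  π_descFam hk σ n

lemma epi_sysOfFamily_app (n : ℕ) [Epi (σ n)] : Epi ((sysOfFamily hk σ hσ).app (op n)) := by
  have h : Epi (Formal.modPowπ I (n + 1) P ≫ (sysOfFamily hk σ hσ).app (op n)) := by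
    rw [π_sysOfFamily]
    infer_instance
  exact epi_of_epi (Formal.modPowπ I (n + 1) P) _

end Family

/-- compatibility with all the transition maps from compatibility with the successive ones. -/
lemma family_map {P : X.Modules} {G : ℕᵒᵖ ⥤ X.Modules} (σ : ∀ n, P ⟶ G.obj (op n))
    (hσ : ∀ n, σ (n + 1) ≫ tr G n = σ n) {n k : ℕ} (h : n ≤ k) :
    σ k ≫ G.map (homOfLE h).op = σ n := by
  induction k, h using Nat.le_induction with
  | base =>
    have : (homOfLE (le_refl n)).op = 𝟙 (op n) := Subsingleton.elim _ _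
    rw [this, CategoryTheory.Functor.map_id, Category.comp_id]
  | succ k hk ih =>
    have : (homOfLE (hk.trans (Nat.le_succ k))).op =
        (homOfLE (Nat.le_succ k)).op ≫ (homOfLE hk).op := Subsingleton.elim _ _
    rw [this, CategoryTheory.Functor.map_comp, ← Category.assoc]
    change (σ (k + 1) ≫ tr G k) ≫ _ = _
    rw [hσ k, ih]

/-- the morphism of completion systems induced by a morphism of modules. -/
noncomputable def complMap {P M : X.Modules} (κ : P ⟶ M) :
    Formal.completion I P ⟶ Formal.completion I M :=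
  sysOfFamily (G := Formal.completion I M)
    (fun n => Groth.Agent.H2.FormalEq.killedBy_modPow I (n + 1) M)
    (fun n => κ ≫ Formal.modPowπ I (n + 1) M) (fun n => by
      rw [Category.assoc]
      congr 1
      exact π_completion_map I M (Nat.le_succ n))

@[reassoc]
lemma π_complMap {P M : X.Modules} (κ : P ⟶ M) (n : ℕ) :
    Formal.modPowπ I (n + 1) P ≫ (complMap (I := I) κ).app (op n) =
      κ ≫ Formal.modPowπ I (n + 1) M :=
  π_sysOfFamily _ _ _ n

instance epi_complMap_app {P M : X.Modules} (κ : P ⟶ M) [Epi κ] (n : ℕ) :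
    Epi ((complMap (I := I) κ).app (op n)) := by
  have h0 : Epi (Formal.modPowπ I (n + 1) M) := inferInstanceAs (Epi (cokernel.π _))
  have h : Epi (Formal.modPowπ I (n + 1) P ≫ (complMap (I := I) κ).app (op n)) := by
    rw [π_complMap]
    exact @epi_comp _ _ _ _ _ κ _ _ h0
  exact epi_of_epi (Formal.modPowπ I (n + 1) P) _

end Groth.Agent.LD.GX
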