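import Groth.Agent.Lib.Lead.GE.FormalFam
import Groth.Agent.Lib.Lead.SC.SerreCrit
import Groth.Agent.Lib.Lead.QC.FreeHom
import Groth.Agent.Lib.Lead.QC.InvEpi
import Groth.Agent.Lib.Lead.QC.ResolProp
import Groth.Agent.Lib.Lead.Curve.DegMono
import Groth.Agent.Lib.Helper5.Glue.F
import Groth.Agent.Lib.Helper5.Curve6.TwistEquiv

/-! # Lifting compatible families of twisted sections through an inverse system, and untwisting -/

set_option autoImplicit false
universe u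
open CategoryTheory Limits Opposite TopologicalSpace AlgebraicGeometry

namespace Groth.Agent.LD.GX
open Groth.Agent.LD.FF Groth.Agent.LD Groth.Agent.LD.GE

variable {X : Scheme.{u}} (Λ : X.Modules) (F : ℕᵒᵖ ⥤ X.Modules)

/-- the transition maps are epimorphisms whose kernels, twisted by `Λ`, have no `H¹`. -/
def LiftHyp : Prop :=
  ∀ n, ∃ (Nn : X.Modules) (a : Nn ⟶ F.obj (op (n + 1))) (w : a ≫ tr F n = 0),
    (ShortComplex.mk a (tr F n) w).ShortExact ∧
      Subsingleton (Coh.HH X (CohB1.tensorMod Nn Λ) 1)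

variable {Λ F}

lemma exists_lift_succ (hΛ : PicF.IsInvertible Λ) (h : LiftHyp Λ F) (n r : ℕ)
    (q : FlatMod.freeMod X r ⟶ CohB1.tensorMod (F.obj (op n)) Λ) :
    ∃ q' : FlatMod.freeMod X r ⟶ CohB1.tensorMod (F.obj (op (n + 1))) Λ,
      q' ≫ KoszTw.tensorMap (tr F n) (𝟙 Λ) = q := by
  obtain ⟨Nn, a, w, hS, h1⟩ := h n
  have hS' := QC.shortExact_tensorMap_of_isInvertible hS Λ hΛ
  have hsurj := SC.surjective_app_top_of_h1Zero hS' (SC.h1Zero_of_HH _ h1)
  change Function.Surjective ((KoszTw.tensorMap (tr F n) (𝟙 Λ)).app ⊤) at hsurj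
  choose t ht using fun i => hsurj (QC.sectionsOfHom q i)
  refine ⟨QC.homOfSections _ t, ?_⟩
  apply QC.hom_ext_sections
  rw [QC.sectionsOfHom_comp, QC.sectionsOfHom_homOfSections]
  funext i
  exact ht i

/-- the recursively lifted sequence, at the levels `c + m`. -/
noncomputable def liftSeq (hΛ : PicF.IsInvertible Λ) (h : LiftHyp Λ F) (c r : ℕ)
    (q : FlatMod.freeMod X r ⟶ CohB1.tensorMod (F.obj (op c)) Λ) :
    ∀ m : ℕ, FlatMod.freeMod X r ⟶ CohB1.tensorMod (F.obj (op (c + m))) Λ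
  | 0 => q
  | m + 1 => Classical.choose (exists_lift_succ hΛ h (c + m) r (liftSeq hΛ h c r q m))

lemma liftSeq_succ (hΛ : PicF.IsInvertible Λ) (h : LiftHyp Λ F) (c r : ℕ)
    (q : FlatMod.freeMod X r ⟶ CohB1.tensorMod (F.obj (op c)) Λ) (m : ℕ) :
    liftSeq hΛ h c r q (m + 1) ≫ KoszTw.tensorMap (tr F (c + m)) (𝟙 Λ) = liftSeq hΛ h c r q m :=
  Classical.choose_spec (exists_lift_succ hΛ h (c + m) r (liftSeq hΛ h c r q m))

lemma tensorMap_map_comp {a b c : ℕ} (hab : a ≤ b) (hbc : b ≤ c) :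
    KoszTw.tensorMap (F.map (homOfLE hbc).op) (𝟙 Λ) ≫ KoszTw.tensorMap (F.map (homOfLE hab).op) (𝟙 Λ) =
      KoszTw.tensorMap (F.map (homOfLE (hab.trans hbc)).op) (𝟙 Λ) := by
  rw [← QC.tensorMap_comp_id, ← F.map_comp]
  rfl

lemma liftSeq_down (hΛ : PicF.IsInvertible Λ) (h : LiftHyp Λ F) (c r : ℕ)
    (q : FlatMod.freeMod X r ⟶ CohB1.tensorMod (F.obj (op c)) Λ) (m : ℕ) :
    liftSeq hΛ h c r q m ≫ KoszTw.tensorMap (F.map (homOfLE (Nat.le_add_right c m)).op) (𝟙 Λ) =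
      q := by
  induction m with
  | zero =>
    have e : F.map (homOfLE (Nat.le_add_right c 0)).op = 𝟙 _ := by
      rw [← F.map_id]
      rfl
    rw [e, QC.tensorMap_id_id, Category.comp_id]
    rfl
  | succ m ih =>
    have e := tensorMap_map_comp (Λ := Λ) (F := F) (Nat.le_add_right c m) (Nat.le_succ (c + m))
    have e' : KoszTw.tensorMap (F.map (homOfLE (Nat.le_add_right c (m + 1))).op) (𝟙 Λ) =
        KoszTw.tensorMap (tr F (c + m)) (𝟙 Λ) ≫
          KoszTw.tensorMap (F.map (homOfLE (Nat.le_add_right c m)).op) (𝟙 Λ) := e.symm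
    rw [e', ← Category.assoc, liftSeq_succ, ih]

/-- **lifting**: a morphism `O^r ⟶ F_c ⊗ Λ` extends to a compatible family of morphisms
`O^r ⟶ F_n ⊗ Λ` for all `n`. -/
theorem exists_compatible_lift (hΛ : PicF.IsInvertible Λ) (h : LiftHyp Λ F) (c r : ℕ)
    (q : FlatMod.freeMod X r ⟶ CohB1.tensorMod (F.obj (op c)) Λ) :
    ∃ q' : ∀ n, FlatMod.freeMod X r ⟶ CohB1.tensorMod (F.obj (op n)) Λ,
      q' c = q ∧ ∀ n, q' (n + 1) ≫ KoszTw.tensorMap (tr F n) (𝟙 Λ) = q' n := by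
  refine ⟨fun n => liftSeq hΛ h c r q n ≫
    KoszTw.tensorMap (F.map (homOfLE (Nat.le_add_left n c)).op) (𝟙 Λ), ?_, fun n => ?_⟩
  · exact liftSeq_down hΛ h c r q c
  · change (liftSeq hΛ h c r q (n + 1) ≫
      KoszTw.tensorMap (F.map (homOfLE (Nat.le_add_left (n + 1) c)).op) (𝟙 Λ)) ≫
      KoszTw.tensorMap (F.map (homOfLE (Nat.le_succ n)).op) (𝟙 Λ) = _
    rw [Category.assoc, tensorMap_map_comp (Nat.le_succ n) (Nat.le_add_left (n + 1) c),
      ← tensorMap_map_comp (Nat.le_add_left n c) (Nat.le_succ (c + n)), ← Category.assoc]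
    congr 1
    exact liftSeq_succ hΛ h c r q n

/-- **lifting and untwisting**: if `F_c ⊗ Λ` is a quotient of a finite free module then there are
a finite locally free module `P` and a compatible family of morphisms `P ⟶ F_n`, the one at
level `c` being an epimorphism. -/
theorem exists_compatible_family (hΛ : PicF.IsInvertible Λ) (hqc : ∀ n, (F.obj n).IsQuasicoherent)
    (h : LiftHyp Λ F) (c r : ℕ)
    (q : FlatMod.freeMod X r ⟶ CohB1.tensorMod (F.obj (op c)) Λ) (hq : Epi q) :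
    ∃ (P : X.Modules) (σ : ∀ n, P ⟶ F.obj (op n)), Coh.IsCoh P ∧
      (∀ n, σ (n + 1) ≫ tr F n = σ n) ∧ Epi (σ c) := by
  obtain ⟨E, hE, ⟨e⟩⟩ := Groth.Agent.H5.Glue.exists_inverse Λ hΛ
  obtain ⟨-, ε, -, hε, -⟩ := Groth.Agent.H5.Curve6.exists_twist_unit_counit E hE Λ hΛ
    ⟨QC.tensorCommAll E Λ ≪≫ e⟩
  obtain ⟨q', hq'c, hq'⟩ := exists_compatible_lift hΛ h c r q
  refine ⟨CohB1.tensorMod (FlatMod.freeMod X r) E,
    fun n => KoszTw.tensorMap (q' n) (𝟙 E) ≫ (ε (F.obj (op n)) (hqc _)).hom, ?_, fun n => ?_, ?_⟩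
  · exact Curve.isCoh_of_isFinLocFree
      (RP2.isFinLocFree_tensorMod_of_isInvertible _ _ (QC.isFinLocFree_freeMod X r) hE)
  · rw [Category.assoc, ← hε _ _ (hqc _) (hqc _) (tr F n), ← Category.assoc,
      ← QC.tensorMap_comp_id, hq' n]
  · have h1 : Epi (KoszTw.tensorMap (q' c) (𝟙 E)) := by
      rw [hq'c]
      exact QC.epi_tensorMap_of_isInvertible q hq E hE
    exact @epi_comp _ _ _ _ _ _ h1 _ inferInstance

end Groth.Agent.LD.GX
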