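import Groth.Agent.Lib.Lead.GX.Sys
import Groth.Agent.Lib.Lead.GX.Lift
import Groth.Agent.Lib.Lead.QC.AmpleGG
import Groth.Agent.Lib.Lead.QC.SuppPullback
import Groth.Agent.Lib.Lead.FF.Noeth
import Groth.Agent.Lib.Helper2.AlgzExt1

/-! # Grothendieck's existence theorem in the presence of an ample invertible module -/

set_option autoImplicit false
universe u
open CategoryTheory Limits Opposite TopologicalSpace AlgebraicGeometry

namespace Groth.Agent.LD.GX
open Groth.Agent.LD.FF Groth.Agent.LD Groth.Agent.LD.GE Groth.Agent.LD.TS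

variable {A : Type u} [CommRing A] {X : Scheme.{u}} [X.Over (Spec (CommRingCat.of A))]
  {I : Ideal A}

lemma kerSysι_app_comp {F G : ℕᵒᵖ ⥤ X.Modules} (β : F ⟶ G) (n : ℕᵒᵖ) :
    (kerSysι β).app n ≫ β.app n = 0 :=
  kernel.condition (β.app n)

/-- a compatible family of morphisms from a coherent module to the terms of an inverse system
satisfying the lifting hypothesis for all large twists, with an epimorphism at a given level. -/
theorem exists_family_of_liftHyp (L : X.Modules) (hL : CohB1.IsAmple L) (F : ℕᵒᵖ ⥤ X.Modules)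
    (hF : ∀ n, Coh.IsCoh (F.obj (op n)))
    (hlift : ∃ d₀ : ℕ, ∀ d, d₀ ≤ d → LiftHyp (CohB1.tensorPow L d) F) (c : ℕ) :
    ∃ (P : X.Modules) (σ : ∀ n, P ⟶ F.obj (op n)), Coh.IsCoh P ∧
      (∀ n, σ (n + 1) ≫ tr F n = σ n) ∧ Epi (σ c) := by
  obtain ⟨d₀, hd₀⟩ := hlift
  haveI : CompactSpace X := hL.2.1
  haveI : QuasiSeparatedSpace X := SC.quasiSeparatedSpace_of_isAmple L hL
  haveI := (hF c).1
  obtain ⟨n₁, hn₁⟩ := QC.exists_epi_free_of_isAmple L hL (F.obj (op c)) (hF c).2
  obtain ⟨r, q, hq⟩ := hn₁ (max d₀ n₁) (le_max_right _ _)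
  exact exists_compatible_family (QC.isInvertible_tensorPow hL.1 _) (fun n => (hF n.unop).1)
    (hd₀ _ (le_max_left _ _)) c r q hq

/-- a coherent formal module on a proper scheme with an ample module satisfies the lifting
hypothesis for all large twists. -/
lemma liftHyp_of_isCohFormal (A : Type u) [CommRing A] [IsNoetherianRing A] {I : Ideal A}
    {X : Scheme.{u}} [X.Over (Spec (CommRingCat.of A))] [IsProper (X ↘ Spec (CommRingCat.of A))]
    (L : X.Modules) (hL : CohB1.IsAmple L) {G : ℕᵒᵖ ⥤ X.Modules} (hG : Formal.IsCohFormal I G) :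
    ∃ d₀ : ℕ, ∀ d, d₀ ≤ d → LiftHyp (CohB1.tensorPow L d) G := by
  obtain ⟨d₀, hd₀⟩ := s0848 A I X L hL G hG
  refine ⟨d₀, fun d hd n => ?_⟩
  refine ⟨kernel (tr G n), kernel.ι _, kernel.condition _, ?_, hd₀ n d hd⟩
  exact
    { exact := ShortComplex.exact_of_f_is_kernel _ (kernelIsKernel _)
      mono_f := inferInstanceAs (Mono (kernel.ι (tr G n)))
      epi_g := epi_tr hG n }

section Transfer
variable [IsLocallyNoetherian X] {s : ℕ} (a : Fin s → A) (ha : Ideal.span (Set.range a) = I)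
  {F M G : ℕᵒᵖ ⥤ X.Modules}

/-- **transfer of eventual generation to a quotient**: if the kernel family of `gr F ⟶ gr G` is
generated from degree `k₁` on and `F ⟶ M` is a termwise epimorphism through which `F ⟶ G`
factors, then the vanishing of the kernel of `gr_k M ⟶ gr_k G` propagates from `k ≥ k₁` to
`k + 1`. -/
lemma isZero_kernel_grMap_succ (hF : Formal.IsCohFormal I F) (hM : Formal.IsCohFormal I M)
    (hG : Formal.IsCohFormal I G) (κ : F ⟶ M) (β : M ⟶ G) (α : F ⟶ G) (hfac : κ ≫ β = α)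
    (hκ : ∀ n, Epi (κ.app (op n)))
    {𝒰 : Set X.Opens} (h𝒰 : ∀ U ∈ 𝒰, IsAffineOpen U) (hcov : ∀ x : X, ∃ U ∈ 𝒰, x ∈ U) {k₁ : ℕ}
    (hEv : (formalFamMap a ha hF hG α).kerFam.EvGen 𝒰 k₁) (k : ℕ) (hk : k₁ ≤ k)
    (hz : IsZero (kernel (grMap (I := I) β k))) : IsZero (kernel (grMap (I := I) β (k + 1))) := by
  subst hfac
  set g := formalFamMap a ha hF hG (κ ≫ β) with hg
  have qF : ∀ j, (gr I F j).IsQuasicoherent := fun j => qc_idealMul _ _ (hF.1 (j + 1)).1
  have qM : ∀ j, (gr I M j).IsQuasicoherent := fun j => qc_idealMul _ _ (hM.1 (j + 1)).1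
  have qG : ∀ j, (gr I G j).IsQuasicoherent := fun j => qc_idealMul _ _ (hG.1 (j + 1)).1
  haveI : (kernel (grMap (I := I) β (k + 1))).IsQuasicoherent :=
    QC.qc_kernel _ (qM _) (qG _)
  apply QC.isZero_of_affine_cover
  intro x
  obtain ⟨U, hU, hxU⟩ := hcov x
  refine ⟨U, h𝒰 U hU, hxU, fun w' => ?_⟩
  apply QC.mono_app (kernel.ι (grMap (I := I) β (k + 1))) U
  rw [map_zero]
  have hv'0 : (grMap (I := I) β (k + 1)).app U
      ((kernel.ι (grMap (I := I) β (k + 1))).app U w') = 0 := QC.kernel_ι_app_comp _ U w'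
  haveI := hκ (k + 1 + 1)
  haveI : Epi (grMap (I := I) κ (k + 1)) := epi_grMap κ (k + 1)
  obtain ⟨v, hv⟩ := QC.epi_app_affine (qF (k + 1)) (qM (k + 1)) (grMap (I := I) κ (k + 1))
    (h𝒰 U hU) ((kernel.ι (grMap (I := I) β (k + 1))).app U w')
  have hv0 : (grMap (I := I) (κ ≫ β) (k + 1)).app U v = 0 := by
    rw [grMap_comp]
    change (grMap (I := I) β (k + 1)).app U ((grMap (I := I) κ (k + 1)).app U v) = 0
    rw [hv, hv'0]
  obtain ⟨w, hw⟩ := QC.exists_kernel_section (grMap (I := I) (κ ≫ β) (k + 1)) U v hv0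
  obtain ⟨y, hy⟩ := hEv k hk U hU w
  -- each term of the sum dies in `gr M`
  have hterm : ∀ i, (grMap (I := I) κ (k + 1)).app U
      ((T hF (a i) (a_mem a ha i) k).app U
        ((kernel.ι (grMap (I := I) (κ ≫ β) k)).app U (y i))) = 0 := by
    intro i
    set u := (kernel.ι (grMap (I := I) (κ ≫ β) k)).app U (y i) with hu
    have h1 : (grMap (I := I) β k).app U ((grMap (I := I) κ k).app U u) = 0 := by
      have h0 : (grMap (I := I) (κ ≫ β) k).app U u = 0 := QC.kernel_ι_app_comp _ U (y i)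
      rw [grMap_comp] at h0
      exact h0
    obtain ⟨z, hz'⟩ := QC.exists_kernel_section (grMap (I := I) β k) U _ h1
    have hz0 : z = 0 := QC.section_eq_zero_of_isZero _ hz z
    have h2 : (grMap (I := I) κ k).app U u = 0 := by rw [← hz', hz0, map_zero]
    have h3 : (grMap (I := I) κ (k + 1)).app U ((T hF (a i) (a_mem a ha i) k).app U u) =
        (T hM (a i) (a_mem a ha i) k).app U ((grMap (I := I) κ k).app U u) := by
      change ((T hF (a i) (a_mem a ha i) k ≫ grMap (I := I) κ (k + 1)).app U) u =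
        ((grMap (I := I) κ k ≫ T hM (a i) (a_mem a ha i) k).app U) u
      rw [grMap_T hF hM κ (a i) (a_mem a ha i) k]
    rw [h3, h2, map_zero]
  -- assemble
  have hw' : (kernel.ι (g.f (k + 1))).app U w = v := hw
  have h4 : (kernel.ι (g.f (k + 1))).app U (∑ i : Fin s, (g.kerFam.T i k).app U (y i)) =
      ∑ i : Fin s, (kernel.ι (g.f (k + 1))).app U ((g.kerFam.T i k).app U (y i)) :=
    map_sum _ _ _
  have hsum : v = ∑ i, (T hF (a i) (a_mem a ha i) k).app U
      ((kernel.ι (grMap (I := I) (κ ≫ β) k)).app U (y i)) := by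
    rw [← hw', hy]
    refine h4.trans (Finset.sum_congr rfl fun i _ => ?_)
    change ((g.kerFam.T i k ≫ kernel.ι (g.f (k + 1))).app U) (y i) = _
    rw [GHom.kerFam_T_ι]
    rfl
  rw [← hv, hsum, map_sum]
  exact Finset.sum_eq_zero fun i _ => hterm i

end Transfer

/-- **Grothendieck's existence theorem, in the presence of an ample invertible module**: on a
scheme proper over a Noetherian ring `A` with an ample invertible module, and assuming that
morphisms between completions of coherent modules are algebraizable (which holds when `A` is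
`I`-adically complete), every coherent formal module is the completion of a coherent module. -/
theorem exists_completion_iso [IsNoetherianRing A] [IsProper (X ↘ Spec (CommRingCat.of A))]
    (L : X.Modules) (hL : CohB1.IsAmple L)
    (hff : ∀ (M N : X.Modules), Coh.IsCoh M → Coh.IsCoh N →
      ∀ τ : Formal.completion I M ⟶ Formal.completion I N, ∃ φ : M ⟶ N, ∀ n : ℕ,
        Formal.modPowπ I (n + 1) M ≫ τ.app (op n) = φ ≫ Formal.modPowπ I (n + 1) N)
    (G : ℕᵒᵖ ⥤ X.Modules) (hG : Formal.IsCohFormal I G) :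
    ∃ M : X.Modules, Coh.IsCoh M ∧ Nonempty (Formal.completion I M ≅ G) := by
  haveI : IsLocallyNoetherian X :=
    LocallyOfFiniteType.isLocallyNoetherian (X ↘ Spec (CommRingCat.of A))
  haveI : CompactSpace X := hL.2.1
  obtain ⟨𝒰, h𝒰fin, h𝒰aff, h𝒰cov⟩ := exists_finite_affine_cover X
  obtain ⟨S, hS⟩ := (isNoetherianRing_iff_ideal_fg A).mp inferInstance I
  let a : Fin S.card → A := fun i => (S.equivFin.symm i : A)
  have ha : Ideal.span (Set.range a) = I := by
    rw [← hS]
    congr 1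
    ext x
    constructor
    · rintro ⟨i, rfl⟩
      exact (S.equivFin.symm i).2
    · intro hx
      exact ⟨S.equivFin ⟨x, hx⟩, by simp [a]⟩
  have hπe : ∀ (N : X.Modules) (n : ℕ), Epi (Formal.modPowπ I n N) := fun N n =>
    inferInstanceAs (Epi (cokernel.π _))
  -- stage 1: a termwise epimorphism from the completion of a coherent module
  obtain ⟨P, σ, hP, hσ, hσ0⟩ := exists_family_of_liftHyp L hL G hG.1
    (liftHyp_of_isCohFormal A L hL hG) 0
  have hσe : ∀ n, Epi (σ n) := fun n => epi_of_epi_comp_map_zero hG n (σ n) (by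
    rw [family_map σ hσ (Nat.zero_le n)]
    exact hσ0)
  set α := sysOfFamily hG.2.1 σ hσ with hα
  have hαe : ∀ n, Epi (α.app (op n)) := fun n =>
    haveI := hσe n
    epi_sysOfFamily_app hG.2.1 σ hσ n
  have hPf := Groth.Agent.H2.AlgzExt.isCohFormal_completion I hP
  -- stage 2: generators of the kernels
  set g := formalFamMap a ha hPf hG α with hg
  obtain ⟨k₁, hk₁⟩ := g.kerFam_evGen noethHyp (formalFam_isCoh a ha hPf) h𝒰aff h𝒰fin
    (formalFam_evGen a ha hPf 𝒰 h𝒰aff)
  obtain ⟨d₁, hd₁⟩ := uniform_van A hL h𝒰aff h𝒰fin h𝒰cov S.card g.kerFam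
    (g.kerFam_isCoh (formalFam_isCoh a ha hPf) (formalFam_isCoh a ha hG)) k₁ hk₁
  have hKcoh : ∀ n, Coh.IsCoh ((kerSys α).obj (op n)) := fun n =>
    QC.isCoh_kernel _ (hPf.1 n) (hG.1 n)
  have hKlift : ∃ d₀ : ℕ, ∀ d, d₀ ≤ d → LiftHyp (CohB1.tensorPow L d) (kerSys α) := by
    refine ⟨d₁, fun d hd n => ?_⟩
    haveI := hαe (n + 1)
    have hS := kerSys_shortExact hPf hG α n
    exact ⟨_, (kerComplex (grComplexMap hPf hG α n)).f,
      (kerComplex (grComplexMap hPf hG α n)).zero, hS, hd₁ d hd n 1 Nat.one_pos⟩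
  obtain ⟨Q, τ', hQ, hτ', hτ'e⟩ := exists_family_of_liftHyp L hL (kerSys α) hKcoh hKlift (k₁ + 1)
  set τ : ∀ n, Q ⟶ (Formal.completion I P).obj (op n) :=
    fun n => τ' n ≫ (kerSysι α).app (op n) with hτdef
  have hτ : ∀ n, τ (n + 1) ≫ tr (Formal.completion I P) n = τ n := by
    intro n
    change (τ' (n + 1) ≫ (kerSysι α).app (op (n + 1))) ≫ _ = τ' n ≫ (kerSysι α).app (op n)
    rw [Category.assoc, ← hτ' n, Category.assoc]
    congr 1
    exact ((kerSysι α).naturality (homOfLE (Nat.le_succ n)).op).symm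
  have hτα : ∀ n, τ n ≫ α.app (op n) = 0 := fun n => by
    change (τ' n ≫ (kerSysι α).app (op n)) ≫ _ = 0
    rw [Category.assoc, kerSysι_app_comp, comp_zero]
  obtain ⟨φ, hφ⟩ := hff Q P hQ hP (sysOfFamily (G := Formal.completion I P) hPf.2.1 τ hτ)
  have hφτ : ∀ n, φ ≫ Formal.modPowπ I (n + 1) P = τ n := fun n => by
    rw [← hφ n]
    exact π_sysOfFamily _ _ _ n
  -- stage 3: the cokernel
  have hM : Coh.IsCoh (cokernel φ) := QC.isCoh_cokernel φ hQ hP
  have hφσ : ∀ n, φ ≫ σ n = 0 := by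
    intro n
    rw [← π_sysOfFamily hG.2.1 σ hσ n, ← Category.assoc, hφτ n]
    exact hτα n
  set p : ∀ n, cokernel φ ⟶ G.obj (op n) := fun n => cokernel.desc φ (σ n) (hφσ n) with hpdef
  have hκp : ∀ n, cokernel.π φ ≫ p n = σ n := fun n => cokernel.π_desc _ _ _
  have hp : ∀ n, p (n + 1) ≫ tr G n = p n := by
    intro n
    rw [← cancel_epi (cokernel.π φ), ← Category.assoc, hκp, hκp, hσ n]
  have hpe : ∀ n, Epi (p n) := fun n => by
    have h : Epi (cokernel.π φ ≫ p n) := by
      rw [hκp]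
      exact hσe n
    exact epi_of_epi (cokernel.π φ) _
  set β := sysOfFamily hG.2.1 p hp with hβ
  have hβe : ∀ n, Epi (β.app (op n)) := fun n =>
    haveI := hpe n
    epi_sysOfFamily_app hG.2.1 p hp n
  have hMf := Groth.Agent.H2.AlgzExt.isCohFormal_completion I hM
  set κ : Formal.completion I P ⟶ Formal.completion I (cokernel φ) := complMap (cokernel.π φ)
    with hκ
  have e1 : ∀ n, Formal.modPowπ I (n + 1) P ≫ κ.app (op n) =
      cokernel.π φ ≫ Formal.modPowπ I (n + 1) (cokernel φ) := fun n => π_complMap (cokernel.π φ) n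
  have e2 : ∀ n, Formal.modPowπ I (n + 1) (cokernel φ) ≫ β.app (op n) = p n := fun n =>
    π_sysOfFamily hG.2.1 p hp n
  have e3 : ∀ n, Formal.modPowπ I (n + 1) P ≫ α.app (op n) = σ n := fun n =>
    π_sysOfFamily hG.2.1 σ hσ n
  have e4 : ∀ n, Formal.modPowπ I (n + 1) P ≫ κ.app (op n) ≫ β.app (op n) = σ n := fun n =>
    (Category.assoc _ _ _).symm.trans ((congrArg (fun t => t ≫ β.app (op n)) (e1 n)).trans
      ((Category.assoc _ _ _).trans ((congrArg (fun t => cokernel.π φ ≫ t) (e2 n)).trans (hκp n))))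
  have hfac : κ ≫ β = α := by
    apply NatTrans.ext
    funext n
    obtain ⟨n⟩ := n
    haveI := hπe P (n + 1)
    refine (cancel_epi (Formal.modPowπ I (n + 1) P)).mp ?_
    exact (e4 n).trans (e3 n).symm
  -- (i) `β` is a monomorphism at level `k₁ + 1`
  have hmono0 : Mono (β.app (op (k₁ + 1))) := by
    obtain ⟨e, he⟩ : ∃ e : P ⟶ (Formal.completion I (cokernel φ)).obj (op (k₁ + 1)),
        e = Formal.modPowπ I (k₁ + 1 + 1) P ≫ κ.app (op (k₁ + 1)) := ⟨_, rfl⟩
    haveI : Epi e := by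
      rw [he]
      have hκe' : Epi (κ.app (op (k₁ + 1))) := epi_complMap_app (I := I) (cokernel.π φ) (k₁ + 1)
      exact @epi_comp _ _ _ _ _ _ (hπe P (k₁ + 1 + 1)) _ hκe'
    have heβ : e ≫ β.app (op (k₁ + 1)) = Formal.modPowπ I (k₁ + 1 + 1) P ≫ α.app (op (k₁ + 1)) := by
      rw [he]
      exact (Category.assoc _ _ _).trans ((e4 (k₁ + 1)).trans (e3 (k₁ + 1)).symm)
    apply mono_of_kernel_comp e
    have h1 : (kernel.ι (e ≫ β.app (op (k₁ + 1))) ≫ Formal.modPowπ I (k₁ + 1 + 1) P) ≫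
        α.app (op (k₁ + 1)) = 0 :=
      (Category.assoc _ _ _).trans ((congrArg (fun t => kernel.ι (e ≫ β.app (op (k₁ + 1))) ≫ t)
        heβ.symm).trans (kernel.condition _))
    have h2 : kernel.ι (α.app (op (k₁ + 1))) ≫ κ.app (op (k₁ + 1)) = 0 := by
      haveI := hτ'e
      have h5 : τ (k₁ + 1) ≫ κ.app (op (k₁ + 1)) = 0 := by
        have h6 : τ (k₁ + 1) ≫ κ.app (op (k₁ + 1)) =
            φ ≫ cokernel.π φ ≫ Formal.modPowπ I (k₁ + 1 + 1) (cokernel φ) :=
          (congrArg (fun t => t ≫ κ.app (op (k₁ + 1))) (hφτ (k₁ + 1)).symm).trans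
            ((Category.assoc _ _ _).trans (congrArg (fun t => φ ≫ t) (e1 (k₁ + 1))))
        rw [h6, ← Category.assoc, cokernel.condition]
        exact zero_comp
      exact (cancel_epi (τ' (k₁ + 1))).mp (((Category.assoc _ _ _).symm.trans h5).trans
        comp_zero.symm)
    have h4 : kernel.ι (e ≫ β.app (op (k₁ + 1))) ≫ Formal.modPowπ I (k₁ + 1 + 1) P =
        kernel.lift (α.app (op (k₁ + 1))) _ h1 ≫ kernel.ι (α.app (op (k₁ + 1))) :=
      (kernel.lift_ι _ _ h1).symm
    have h7 : kernel.ι (e ≫ β.app (op (k₁ + 1))) ≫ e =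
        (kernel.ι (e ≫ β.app (op (k₁ + 1))) ≫ Formal.modPowπ I (k₁ + 1 + 1) P) ≫
          κ.app (op (k₁ + 1)) := by
      rw [he]
      exact (Category.assoc _ _ _).symm
    exact h7.trans ((congrArg (fun t => t ≫ κ.app (op (k₁ + 1))) h4).trans
      ((Category.assoc _ _ _).trans
        ((congrArg (fun t => kernel.lift (α.app (op (k₁ + 1))) _ h1 ≫ t) h2).trans comp_zero)))
  -- the snake sequences for `β`
  have hS : ∀ k, (kerComplex (grComplexMap hMf hG β k)).ShortExact := fun k =>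
    haveI := hβe (k + 1)
    kerSys_shortExact hMf hG β k
  have hdown : ∀ n, IsZero (kernel (β.app (op (n + 1)))) → IsZero (kernel (β.app (op n))) := by
    intro n hz
    exact @IsZero.of_epi _ _ _ _ _ (kerComplex (grComplexMap hMf hG β n)).g (hS n).epi_g hz
  have hup : ∀ n, IsZero (kernel (grMap (I := I) β n)) → IsZero (kernel (β.app (op n))) →
      IsZero (kernel (β.app (op (n + 1)))) := by
    intro n h1 h3
    exact (hS n).exact.isZero_of_both_zeros (h1.eq_of_src _ _) (h3.eq_of_tgt _ _)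
  have hZ0 : IsZero (kernel (β.app (op (k₁ + 1)))) := isZero_kernel_of_mono _
  have hκe : ∀ n, Epi (κ.app (op n)) := fun n => epi_complMap_app (cokernel.π φ) n
  have hN : ∀ k, k₁ ≤ k → IsZero (kernel (grMap (I := I) β k)) := by
    intro k hk
    induction k, hk using Nat.le_induction with
    | base =>
      exact @IsZero.of_mono _ _ _ _ _ (kerComplex (grComplexMap hMf hG β k₁)).f (hS k₁).mono_f hZ0
    | succ k hk ih =>
      exact isZero_kernel_grMap_succ a ha hPf hMf hG κ β α hfac hκe h𝒰aff h𝒰cov hk₁ k hk ih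
  have hZup : ∀ n, k₁ + 1 ≤ n → IsZero (kernel (β.app (op n))) := by
    intro n hn
    induction n, hn using Nat.le_induction with
    | base => exact hZ0
    | succ n hn ih => exact hup n (hN n (by omega)) ih
  have hZadd : ∀ k n, IsZero (kernel (β.app (op (n + k)))) → IsZero (kernel (β.app (op n))) := by
    intro k
    induction k with
    | zero => exact fun n h => h
    | succ k ih => exact fun n h => ih n (hdown (n + k) h)
  have hZ : ∀ n, IsZero (kernel (β.app (op n))) := fun n =>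
    hZadd (k₁ + 1) n (hZup (n + (k₁ + 1)) (by omega))
  haveI : ∀ n : ℕᵒᵖ, IsIso (β.app n) := by
    intro n
    obtain ⟨n⟩ := n
    haveI := hβe n
    haveI : Mono (β.app (op n)) := Preadditive.mono_of_kernel_zero ((hZ n).eq_of_src _ _)
    exact isIso_of_mono_of_epi _
  haveI : IsIso β := NatIso.isIso_of_isIso_app β
  exact ⟨cokernel φ, hM, ⟨asIso β⟩⟩

end Groth.Agent.LD.GX
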