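import Groth.Agent.Lib.Lead.FF.Local

/-! # Morphisms of graded families and their kernel families -/

set_option autoImplicit false
universe u
open CategoryTheory Limits Opposite TopologicalSpace AlgebraicGeometry

namespace Groth.Agent.LD.GX
open Groth.Agent.LD.FF Groth.Agent.LD

variable {X : Scheme.{u}} {s : ℕ}

/-- a morphism of graded families: degreewise morphisms commuting with the operators. -/
structure GHom (𝓝 𝓝' : GFam X s) where
  f : ∀ k, 𝓝.N k ⟶ 𝓝'.N k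
  comm : ∀ i k, 𝓝.T i k ≫ f (k + 1) = f k ≫ 𝓝'.T i k

namespace GHom

variable {𝓝 𝓝' : GFam X s} (g : GHom 𝓝 𝓝')

/-- the family of kernels of a morphism of graded families. -/
noncomputable def kerFam : GFam X s where
  N k := kernel (g.f k)
  T i k := kernel.map (g.f k) (g.f (k + 1)) (𝓝.T i k) (𝓝'.T i k) (g.comm i k).symm
  comm i j k := by
    rw [← cancel_mono (kernel.ι _)]
    simp only [Category.assoc, kernel.lift_ι, kernel.lift_ι_assoc]
    rw [𝓝.comm]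

lemma kerFam_T_ι (i : Fin s) (k : ℕ) :
    g.kerFam.T i k ≫ kernel.ι (g.f (k + 1)) = kernel.ι (g.f k) ≫ 𝓝.T i k :=
  kernel.lift_ι _ _ _

lemma kerFam_isCoh [IsLocallyNoetherian X] (h : 𝓝.IsCoh) (h' : 𝓝'.IsCoh) : g.kerFam.IsCoh :=
  fun k => QC.isCoh_kernel _ (h k) (h' k)

lemma kerFam_evGen_aux (hN : NoethHyp.{u}) [IsLocallyNoetherian X] (h : 𝓝.IsCoh)
    {U : X.Opens} (hU : IsAffineOpen U) {k₀ : ℕ} (hg : 𝓝.EvGen {U} k₀) :
    ∃ k₁, ∀ k, k₁ ≤ k → ∀ x : Γ(g.kerFam.N (k + 1), U),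
      ∃ y : Fin s → Γ(g.kerFam.N k, U), x = ∑ i, (g.kerFam.T i k).app U (y i) := by
  haveI : IsNoetherianRing Γ(X, U) := IsLocallyNoetherian.component_noetherian ⟨U, hU⟩
  haveI : ∀ k, Module.Finite Γ(X, U) Γ(𝓝.N k, U) := fun k =>
    haveI := (h k).1
    QC.finite_sections_of_isFiniteType (𝓝.N k) (h k).2 hU
  let T : Fin s → ∀ k, Γ(𝓝.N k, U) →ₗ[Γ(X, U)] Γ(𝓝.N (k + 1), U) :=
    fun i k => QC.appLinear (𝓝.T i k) U
  have hcomm : ∀ i j k (x : Γ(𝓝.N k, U)), T i (k + 1) (T j k x) = T j (k + 1) (T i k x) := by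
    intro i j k x
    change ((𝓝.T j k ≫ 𝓝.T i (k + 1)).app U) x = ((𝓝.T i k ≫ 𝓝.T j (k + 1)).app U) x
    rw [𝓝.comm]
  have hgen : ∀ k, k₀ ≤ k → ⨆ i, LinearMap.range (T i k) = ⊤ := by
    intro k hk
    rw [iSup_range_eq_top_iff]
    intro y
    exact hg k hk U rfl y
  let H' : ∀ k, Submodule Γ(X, U) Γ(𝓝.N k, U) := fun k =>
    LinearMap.ker (QC.appLinear (g.f k) U)
  have hstab : ∀ i k x, x ∈ H' k → T i k x ∈ H' (k + 1) := by
    intro i k x hx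
    change (g.f (k + 1)).app U ((𝓝.T i k).app U x) = 0
    have h1 : (g.f (k + 1)).app U ((𝓝.T i k).app U x) =
        (𝓝'.T i k).app U ((g.f k).app U x) := by
      change ((𝓝.T i k ≫ g.f (k + 1)).app U) x = ((g.f k ≫ 𝓝'.T i k).app U) x
      rw [g.comm]
    have h2 : (g.f k).app U x = 0 := hx
    rw [h1, h2, map_zero]
  obtain ⟨k₁, hk₁⟩ := hN (fun k => Γ(𝓝.N k, U)) T hcomm k₀ hgen H' hstab
  refine ⟨k₁, fun k hk x => ?_⟩
  have hy : (kernel.ι (g.f (k + 1))).app U x ∈ H' (k + 1) :=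
    QC.kernel_ι_app_comp (g.f (k + 1)) U x
  have h3 := hk₁ k hk _ hy
  rw [mem_iSup_map_iff] at h3
  obtain ⟨z, hz, hzs⟩ := h3
  have hc : ∀ i, ∃ t : Γ(g.kerFam.N k, U), (kernel.ι (g.f k)).app U t = z i := fun i =>
    QC.exists_kernel_section (g.f k) U (z i) (hz i)
  choose t ht using hc
  refine ⟨t, ?_⟩
  apply QC.mono_app (kernel.ι (g.f (k + 1))) U
  have h4 : (kernel.ι (g.f (k + 1))).app U
      (∑ i : Fin s, (g.kerFam.T i k).app U (t i)) =
      ∑ i : Fin s, (kernel.ι (g.f (k + 1))).app U ((g.kerFam.T i k).app U (t i)) :=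
    map_sum _ _ _
  refine hzs.trans (Eq.trans ?_ h4.symm)
  refine Finset.sum_congr rfl fun i _ => ?_
  change (𝓝.T i k).app U (z i) = ((g.kerFam.T i k ≫ kernel.ι (g.f (k + 1))).app U) (t i)
  rw [kerFam_T_ι, ← ht]
  rfl

/-- the kernel family of a morphism out of an eventually generated coherent family is eventually
generated. -/
lemma kerFam_evGen (hN : NoethHyp.{u}) [IsLocallyNoetherian X] (h : 𝓝.IsCoh)
    {𝒰 : Set X.Opens} (h𝒰 : ∀ U ∈ 𝒰, IsAffineOpen U) (hfin : 𝒰.Finite) {k₀ : ℕ}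
    (hg : 𝓝.EvGen 𝒰 k₀) : ∃ k₁, g.kerFam.EvGen 𝒰 k₁ := by
  have h1 : ∀ U ∈ 𝒰, ∃ k₁, ∀ k, k₁ ≤ k → ∀ x : Γ(g.kerFam.N (k + 1), U),
      ∃ y : Fin s → Γ(g.kerFam.N k, U), x = ∑ i, (g.kerFam.T i k).app U (y i) := by
    intro U hU
    exact kerFam_evGen_aux g hN h (h𝒰 U hU) (k₀ := k₀) (fun k hk V hV x => by
      obtain rfl : V = U := hV
      exact hg k hk V hU x)
  choose! f hf using h1
  obtain ⟨K, hK⟩ := (hfin.image f).bddAbove
  refine ⟨K, fun k hk U hU x => hf U hU k ?_ x⟩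
  exact (hK (Set.mem_image_of_mem f hU)).trans hk

end GHom

end Groth.Agent.LD.GX
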