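import Groth.Agent.Lib.Lead.GX.Snake
import Groth.Agent.Lib.Lead.GX.GFamHom
import Groth.Agent.Lib.Lead.TS.IdealMulPB

/-! # Morphisms of coherent formal modules: the induced morphism of graded families, the system of
kernels, and the snake sequence -/

set_option autoImplicit false
universe u
open CategoryTheory Limits Opposite TopologicalSpace AlgebraicGeometry

namespace Groth.Agent.LD.GX
open Groth.Agent.LD.FF Groth.Agent.LD Groth.Agent.LD.GE Groth.Agent.LD.TS

variable {A : Type u} [CommRing A] {X : Scheme.{u}} [X.Over (Spec (CommRingCat.of A))]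
  {I : Ideal A} {F G H : ℕᵒᵖ ⥤ X.Modules}

/-- `0 ⟶ I^(k+1) G_{k+1} ⟶ G_{k+1} ⟶ G_k ⟶ 0`. -/
noncomputable abbrev grComplex (hG : Formal.IsCohFormal I G) (k : ℕ) : ShortComplex X.Modules :=
  ShortComplex.mk (CohIII.idealMulι (I ^ (k + 1)) (G.obj (op (k + 1)))) (tr G k) (ι_tr hG k)

lemma shortExact_gr (hG : Formal.IsCohFormal I G) (k : ℕ) : (grComplex hG k).ShortExact where
  exact := ShortComplex.exact_of_f_is_kernel _
    (KernelFork.IsLimit.ofι' (CohIII.idealMulι (I ^ (k + 1)) (G.obj (op (k + 1)))) (ι_tr hG k)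
      (fun {_} w hw => ⟨Classical.choose (lemmaK hG k w hw),
        Classical.choose_spec (lemmaK hG k w hw)⟩))
  mono_f := inferInstanceAs (Mono (CohIII.idealMulι (I ^ (k + 1)) (G.obj (op (k + 1)))))
  epi_g := epi_tr hG k

/-- the map induced on `I^(k+1) F_{k+1}`. -/
noncomputable abbrev grMap (β : F ⟶ G) (k : ℕ) : gr I F k ⟶ gr I G k :=
  idealMulMap (I ^ (k + 1)) (β.app (op (k + 1)))

lemma tr_naturality (β : F ⟶ G) (k : ℕ) :
    tr F k ≫ β.app (op k) = β.app (op (k + 1)) ≫ tr G k :=
  β.naturality _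

lemma grMap_T (hF : Formal.IsCohFormal I F) (hG : Formal.IsCohFormal I G) (β : F ⟶ G) (a : A)
    (ha : a ∈ I) (k : ℕ) :
    T hF a ha k ≫ grMap β (k + 1) = grMap (I := I) β k ≫ T hG a ha k := by
  haveI := epi_tr hF (k + 1)
  apply idealMul_hom_ext
  intro b
  rw [← cancel_epi (tr F (k + 1)), tr_eComp_T_assoc hF a ha k b, eComp_idealMulMap,
    eComp_idealMulMap_assoc, ← Category.assoc, tr_naturality, Category.assoc,
    tr_eComp_T hG a ha k b]

instance epi_grMap (β : F ⟶ G) (k : ℕ) [Epi (β.app (op (k + 1)))] : Epi (grMap (I := I) β k) := by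
  refine ⟨fun {Z} f g hfg => ?_⟩
  apply idealMul_hom_ext
  intro b
  rw [← cancel_epi (β.app (op (k + 1))), ← eComp_idealMulMap_assoc, ← eComp_idealMulMap_assoc, hfg]

lemma grMap_comp (β : F ⟶ G) (γ : G ⟶ H) (k : ℕ) :
    grMap (I := I) (β ≫ γ) k = grMap β k ≫ grMap γ k := by
  unfold grMap
  rw [NatTrans.comp_app, idealMulMap_comp]

section fam
variable {s : ℕ} (a : Fin s → A) (ha : Ideal.span (Set.range a) = I)

/-- the morphism of graded families induced by a morphism of coherent formal modules. -/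
noncomputable def formalFamMap (hF : Formal.IsCohFormal I F) (hG : Formal.IsCohFormal I G)
    (β : F ⟶ G) : GHom (formalFam a ha hF) (formalFam a ha hG) where
  f k := grMap β k
  comm i k := grMap_T hF hG β (a i) (a_mem a ha i) k

end fam

/-- the morphism of short complexes `grComplex F k ⟶ grComplex G k`. -/
noncomputable def grComplexMap (hF : Formal.IsCohFormal I F) (hG : Formal.IsCohFormal I G)
    (β : F ⟶ G) (k : ℕ) : grComplex hF k ⟶ grComplex hG k where
  τ₁ := grMap β k
  τ₂ := β.app (op (k + 1))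
  τ₃ := β.app (op k)
  comm₁₂ := idealMulMap_ι _ _
  comm₂₃ := (tr_naturality β k).symm

/-- the system of kernels of a morphism of systems. -/
noncomputable def kerSys (β : F ⟶ G) : ℕᵒᵖ ⥤ X.Modules where
  obj n := kernel (β.app n)
  map {n m} f := kernel.map (β.app n) (β.app m) (F.map f) (G.map f) (β.naturality f).symm
  map_id n := by
    rw [← cancel_mono (kernel.ι _)]
    simp
  map_comp f g := by
    rw [← cancel_mono (kernel.ι _)]
    simp

/-- the inclusion of the system of kernels. -/
noncomputable def kerSysι (β : F ⟶ G) : kerSys β ⟶ F where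
  app n := kernel.ι (β.app n)
  naturality n m f := by simp [kerSys]

lemma kerSysι_comp (β : F ⟶ G) : kerSysι β ≫ β = 0 := by
  apply NatTrans.ext
  funext n
  exact kernel.condition (β.app n)

/-- **the snake sequence** `0 ⟶ ker(gr_k β) ⟶ ker β_{k+1} ⟶ ker β_k ⟶ 0` for a termwise
epimorphism of coherent formal modules. -/
theorem kerSys_shortExact (hF : Formal.IsCohFormal I F) (hG : Formal.IsCohFormal I G)
    (β : F ⟶ G) (k : ℕ) [Epi (β.app (op (k + 1)))] :
    (kerComplex (grComplexMap hF hG β k)).ShortExact :=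
  haveI : Epi (grComplexMap hF hG β k).τ₁ := epi_grMap β k
  kerComplex_shortExact _ (shortExact_gr hF k) (shortExact_gr hG k)

lemma kerComplex_g (hF : Formal.IsCohFormal I F) (hG : Formal.IsCohFormal I G)
    (β : F ⟶ G) (k : ℕ) :
    (kerComplex (grComplexMap hF hG β k)).g = tr (kerSys β) k := rfl

end Groth.Agent.LD.GX
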