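import Groth.Agent.Lib.Lead.GX.Main
import Groth.Agent.Lib.Lead.PN.QProj
import Groth.Agent.Lib.Helper5.AG.ProjProper

/-! # Grothendieck's existence theorem for closed subschemes of projective space -/

set_option autoImplicit false
universe u
open CategoryTheory Limits Opposite TopologicalSpace AlgebraicGeometry

namespace Groth.Agent.LD.GX
open Groth.Agent.LD.FF Groth.Agent.LD Groth.Agent.LD.GE

/-- **S0061**, with the full faithfulness of completion as a hypothesis. -/
theorem s0061 (A : Type u) [CommRing A] [IsNoetherianRing A] (I : Ideal A) (n : ℕ)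
    (X : Scheme.{u}) [X.Over (Spec (CommRingCat.of A))]
    (i : X ⟶ CohB1.ProjSpace n A) [IsClosedImmersion i]
    (hi : i ≫ CohB1.ProjSpace.toSpec n A = X ↘ Spec (CommRingCat.of A))
    (hff : IsProper (X ↘ Spec (CommRingCat.of A)) →
      ∀ (M N : X.Modules), Coh.IsCoh M → Coh.IsCoh N →
      ∀ τ : Formal.completion I M ⟶ Formal.completion I N, ∃ φ : M ⟶ N, ∀ n : ℕ,
        Formal.modPowπ I (n + 1) M ≫ τ.app (op n) = φ ≫ Formal.modPowπ I (n + 1) N)
    (G : ℕᵒᵖ ⥤ X.Modules) (hG : Formal.IsCohFormal I G) :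
    ∃ M : X.Modules, Coh.IsCoh M ∧ Nonempty (Formal.completion I M ≅ G) := by
  haveI := Groth.Agent.H5.AG.isProper_toSpec n A
  haveI hp : IsProper (X ↘ Spec (CommRingCat.of A)) := by
    rw [← hi]
    infer_instance
  let i' : X ⟶ Proj (CohB1.polyGrading n A) := i
  haveI : IsClosedImmersion i' := ‹IsClosedImmersion i›
  obtain ⟨-, L, L', hL, -⟩ := PN.exists_ample_of_immersion n A i'
  exact exists_completion_iso L hL (hff hp) G hG

end Groth.Agent.LD.GX
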