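import Mathlib

/-! # Kernels of a morphism of short exact sequences -/

set_option autoImplicit false
universe v u
open CategoryTheory Limits

namespace Groth.Agent.LD.GX

variable {C : Type u} [Category.{v} C] [Abelian C]

/-- the complex of kernels of a morphism of short complexes. -/
noncomputable def kerComplex {L₁ L₂ : ShortComplex C} (v : L₁ ⟶ L₂) : ShortComplex C :=
  ShortComplex.mk (kernel.map v.τ₁ v.τ₂ L₁.f L₂.f v.comm₁₂)
    (kernel.map v.τ₂ v.τ₃ L₁.g L₂.g v.comm₂₃) (by
      rw [← cancel_mono (kernel.ι v.τ₃)]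
      simp)

/-- the inclusion of the complex of kernels. -/
noncomputable def kerComplexι {L₁ L₂ : ShortComplex C} (v : L₁ ⟶ L₂) : kerComplex v ⟶ L₁ where
  τ₁ := kernel.ι v.τ₁
  τ₂ := kernel.ι v.τ₂
  τ₃ := kernel.ι v.τ₃
  comm₁₂ := by simp [kerComplex]
  comm₂₃ := by simp [kerComplex]

lemma kerComplexι_comp {L₁ L₂ : ShortComplex C} (v : L₁ ⟶ L₂) : kerComplexι v ≫ v = 0 := by
  ext <;> exact kernel.condition _

/-- **snake lemma, kernel part**: for a morphism of short exact sequences whose first component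
is an epimorphism, the sequence of kernels is short exact. -/
theorem kerComplex_shortExact {L₁ L₂ : ShortComplex C} (v : L₁ ⟶ L₂) (h1 : L₁.ShortExact)
    (h2 : L₂.ShortExact) [Epi v.τ₁] : (kerComplex v).ShortExact := by
  haveI := h1.mono_f
  haveI := h1.epi_g
  haveI := h2.mono_f
  let S : ShortComplex.SnakeInput C :=
    { L₀ := kerComplex v
      L₁ := L₁
      L₂ := L₂
      L₃ := cokernel v
      v₀₁ := kerComplexι v
      v₁₂ := v
      v₂₃ := cokernel.π v
      w₀₂ := kerComplexι_comp v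
      w₁₃ := cokernel.condition v
      h₀ := ShortComplex.isLimitOfIsLimitπ _
        ((isLimitMapConeForkEquiv' ShortComplex.π₁ (kerComplexι_comp v)).symm
          (kernelIsKernel v.τ₁))
        ((isLimitMapConeForkEquiv' ShortComplex.π₂ (kerComplexι_comp v)).symm
          (kernelIsKernel v.τ₂))
        ((isLimitMapConeForkEquiv' ShortComplex.π₃ (kerComplexι_comp v)).symm
          (kernelIsKernel v.τ₃))
      h₃ := cokernelIsCokernel v
      L₁_exact := h1.exact
      epi_L₁_g := inferInstance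
      L₂_exact := h2.exact
      mono_L₂_f := inferInstance }
  have hex : (kerComplex v).Exact := S.L₀_exact
  haveI hm : Mono (kerComplex v).f := S.mono_L₀_f
  -- `L₃.X₁ = coker v.τ₁ = 0`
  have hZ : IsZero S.L₃.X₁ := by
    haveI : Epi S.v₂₃.τ₁ := S.epi_v₂₃_τ₁
    have h0 : S.v₂₃.τ₁ = 0 := by
      have hw : S.v₁₂.τ₁ ≫ S.v₂₃.τ₁ = 0 := S.w₁₃_τ₁
      haveI : Epi S.v₁₂.τ₁ := ‹Epi v.τ₁›
      rw [← cancel_epi S.v₁₂.τ₁, hw, comp_zero]
    rw [IsZero.iff_id_eq_zero, ← cancel_epi S.v₂₃.τ₁, h0, zero_comp, zero_comp]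
  have hE := S.L₁'_exact
  haveI he : Epi (kerComplex v).g := hE.epi_f (hZ.eq_of_tgt _ _)
  exact ShortComplex.ShortExact.mk hex

end Groth.Agent.LD.GX
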